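import Mathlib
import Cfsg.Agent.Lib.SchurCert.Lift
import Cfsg.Agent.Lib.Golay.Perm

/-!
# Extensions of a permutation group by a quotient or subspace of the 24-point permutation module

An element `a` of the normal subgroup is related to a word `u` on the 24 points by a relation `Rp a u`, modulo a subspace
`K` of words.  Lifts of the vertices of a Cayley graph give, for every edge, an element of the normal subgroup, and the
closed walks give equations.  Every edge value is computed by a table of matrices (24 rows, with a column for every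
bit of the parameters) which is checked by the kernel.
-/

set_option autoImplicit false

namespace Cfsg.Agent.Lib.ExtCert.Basic

open Cfsg Cfsg.Agent.Lib.Golay.Core Cfsg.Agent.Lib.Golay.Perm
open Cfsg.Agent.Lib.SchurCert.Elim Cfsg.Agent.Lib.SchurCert.Lift

/-- Words on the 24 points. -/
abbrev W := GolayPt → ZMod 2

/-- The relation between the elements of the normal subgroup and words. -/
structure ExtMod {E : Type*} [Group E] (σ : E →* Equiv.Perm GolayPt) (K : AddSubgroup W) (Rp : E → W → Prop) : Prop where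
  mul : ∀ {a b : E} {u v : W}, Rp a u → Rp b v → Rp (a * b) (u + v)
  conj : ∀ {a : E} {u : W} (g : E), Rp a u → Rp (g * a * g⁻¹) (u ∘ ⇑(σ g)⁻¹)
  ex : ∀ {a : E}, σ a = 1 → ∃ u, Rp a u
  ker : ∀ {a : E} {u : W}, Rp a u → σ a = 1
  diff : ∀ {a : E} {u v : W}, Rp a u → Rp a v → u + v ∈ K
  shift : ∀ {a : E} {u v : W}, Rp a u → v ∈ K → Rp a (u + v)
  triv : ∀ {a : E} {u : W}, Rp a u → u ∈ K → a = 1
  one : Rp 1 0
  comm : ∀ {a b : E} {u v : W}, Rp a u → Rp b v → a * b = b * a

section Mod

variable {E : Type*} [Group E] {σ : E →* Equiv.Perm GolayPt} {K : AddSubgroup W} {Rp : E → W → Prop}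
  (MD : ExtMod σ K Rp)

include MD

theorem ExtMod.conj' {a : E} {u : W} (g : E) (h : Rp a u) : Rp (g⁻¹ * a * g) (u ∘ ⇑(σ g)) := by
  have := MD.conj g⁻¹ h
  simpa using this

theorem ExtMod.K_comp {k : W} (hk : k ∈ K) (g : E) : k ∘ ⇑(σ g)⁻¹ ∈ K := by
  have h1 : Rp 1 (0 + k) := MD.shift MD.one hk
  rw [zero_add] at h1
  have h2 := MD.conj g h1
  simp only [mul_one, mul_inv_cancel] at h2
  have h3 := MD.diff h2 MD.one
  simpa using h3

theorem ExtMod.K_comp' {k : W} (hk : k ∈ K) (g : E) : k ∘ ⇑(σ g) ∈ K := by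
  have := MD.K_comp hk g⁻¹
  simpa using this

theorem ExtMod.inv_eq {a : E} {u : W} (h : Rp a u) : a⁻¹ = a := by
  have h1 := MD.mul h h
  have h2 : u + u = 0 := by
    funext p
    exact CharTwo.add_self_eq_zero (u p)
  rw [h2] at h1
  have h3 : a * a = 1 := MD.triv h1 K.zero_mem
  exact inv_eq_of_mul_eq_one_left h3

theorem ExtMod.inv {a : E} {u : W} (h : Rp a u) : Rp a⁻¹ u := by
  rw [MD.inv_eq h]
  exact h

theorem ExtMod.replace {a : E} {u v : W} (hu : Rp a u) (h : u + v ∈ K) : Rp a v := by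
  have h1 := MD.shift hu h
  have h2 : u + (u + v) = v := by
    funext p
    simp only [Pi.add_apply]
    rw [← add_assoc, CharTwo.add_self_eq_zero, zero_add]
  rwa [h2] at h1

end Mod

theorem W_add_self (u : W) : u + u = 0 := by
  funext p
  exact CharTwo.add_self_eq_zero (u p)

/-! ### Linear forms given by bit vectors -/

/-- The value of the linear form with bit vector `n` (on the bits below `B`). -/
noncomputable def evB (B : ℕ) (ρ : ℕ → ZMod 2) (n : ℕ) : ZMod 2 :=
  ∑ b ∈ Finset.range B, if n.testBit b = true then ρ b else 0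

theorem evB_xor (B : ℕ) (ρ : ℕ → ZMod 2) (a b : ℕ) : evB B ρ (a ^^^ b) = evB B ρ a + evB B ρ b := by
  unfold evB
  rw [← Finset.sum_add_distrib]
  apply Finset.sum_congr rfl
  intro i _
  rw [Nat.testBit_xor]
  cases a.testBit i <;> cases b.testBit i <;> simp [CharTwo.add_self_eq_zero]

theorem evB_zero (B : ℕ) (ρ : ℕ → ZMod 2) : evB B ρ 0 = 0 := by
  simp [evB]

theorem evB_congr {B : ℕ} {ρ : ℕ → ZMod 2} {a b : ℕ} (h : ∀ i, i < B → a.testBit i = b.testBit i) :
    evB B ρ a = evB B ρ b := by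
  unfold evB
  apply Finset.sum_congr rfl
  intro i hi
  rw [h i (Finset.mem_range.mp hi)]

/-- The mask of the lowest `B` bits. -/
def lowMask (B : ℕ) : ℕ := Nat.sub (Nat.shiftLeft 1 B) 1

/-- A row of a packed matrix. -/
def rowOf (B n q : ℕ) : ℕ := Nat.land (Nat.shiftRight n (Nat.mul q B)) (lowMask B)

theorem lowMask_eq (B : ℕ) : lowMask B = 2 ^ B - 1 := by
  show (1 <<< B) - 1 = _
  rw [Nat.one_shiftLeft]

theorem testBit_rowOf {B n q b : ℕ} (hb : b < B) : (rowOf B n q).testBit b = n.testBit (q * B + b) := by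
  show ((n >>> (q * B)) &&& lowMask B).testBit b = _
  rw [lowMask_eq, Nat.testBit_and, Nat.testBit_shiftRight, Nat.testBit_two_pow_sub_one]
  simp only [hb, decide_true, Bool.and_true]

theorem rowOf_xor (B a b q : ℕ) : rowOf B (a ^^^ b) q = rowOf B a q ^^^ rowOf B b q := by
  show (((a ^^^ b) >>> (q * B)) &&& lowMask B) = ((a >>> (q * B)) &&& lowMask B) ^^^ ((b >>> (q * B)) &&& lowMask B)
  rw [Nat.shiftRight_xor_distrib, Nat.and_xor_distrib_right]

theorem rowOf_zero (B q : ℕ) : rowOf B 0 q = 0 := by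
  show ((0 : ℕ) >>> (q * B)) &&& lowMask B = 0
  simp

/-- The word given by a matrix. -/
noncomputable def wM (B : ℕ) (ρ : ℕ → ZMod 2) (n : ℕ) : W := fun p => evB B ρ (rowOf B n (idx p))

theorem wM_xor (B : ℕ) (ρ : ℕ → ZMod 2) (a b : ℕ) : wM B ρ (a ^^^ b) = wM B ρ a + wM B ρ b := by
  funext p
  simp only [wM, Pi.add_apply, rowOf_xor, evB_xor]

theorem wM_zero (B : ℕ) (ρ : ℕ → ZMod 2) : wM B ρ 0 = 0 := by
  funext p
  simp only [wM, Pi.zero_apply, rowOf_zero, evB_zero]

theorem wM_rho_zero (B n : ℕ) : wM B (fun _ => 0) n = 0 := by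
  funext p
  simp [wM, evB]

/-- The exclusive or of a function over the edges of a walk. -/
noncomputable def wXor (nx : ℕ → ℕ → ℕ) (f : ℕ → ℕ) (w : List ℕ) : ℕ → ℕ :=
  List.rec (motive := fun _ => ℕ → ℕ) (fun _ => 0)
    (fun g _ ih v => Nat.xor (f (Nat.add (Nat.mul 2 v) g)) (ih (nx v g))) w

theorem wXor_nil (nx : ℕ → ℕ → ℕ) (f : ℕ → ℕ) (v : ℕ) : wXor nx f [] v = 0 := rfl

theorem wXor_cons (nx : ℕ → ℕ → ℕ) (f : ℕ → ℕ) (g : ℕ) (w : List ℕ) (v : ℕ) :
    wXor nx f (g :: w) v = f (Nat.add (Nat.mul 2 v) g) ^^^ wXor nx f w (nx v g) := rfl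

theorem wM_wXor (B : ℕ) (ρ : ℕ → ZMod 2) (nx : ℕ → ℕ → ℕ) (f : ℕ → ℕ) (w : List ℕ) (v : ℕ) :
    wM B ρ (wXor nx f w v) = ((edgesOf nx w v).map (fun e => wM B ρ (f e))).sum := by
  induction w generalizing v with
  | nil => simp [wXor_nil, edgesOf, wM_zero]
  | cons g w ih =>
    simp only [wXor_cons, edgesOf, List.map_cons, List.sum_cons, wM_xor, ih]

/-- A sum over a list with one value changed. -/
theorem sum_update (l : List ℕ) (f : ℕ → W) (x : ℕ) (a : W) :
    (l.map (fun e => if e = x then a else f e)).sum = (l.map f).sum + (l.count x) • (a + f x) := by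
  induction l with
  | nil => simp
  | cons y l ih =>
    simp only [List.map_cons, List.sum_cons, ih, List.count_cons]
    by_cases h : y = x
    · subst h
      simp only [if_true, beq_self_eq_true, add_smul, one_smul]
      have : a = f y + (a + f y) := by
        funext p
        simp only [Pi.add_apply]
        rw [add_left_comm, CharTwo.add_self_eq_zero, add_zero]
      nth_rewrite 1 [this]
      abel
    · have h' : (y == x) = false := by simpa using h
      simp [if_neg h, h', add_assoc]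

/-! ### The walk -/

section Walk

variable {E : Type*} [Group E] {σ : E →* Equiv.Perm GolayPt} {K : AddSubgroup W} {Rp : E → W → Prop}
  (nx : ℕ → ℕ → ℕ) (par : ℕ → ℕ) (gen : ℕ → E)

/-- The element of an edge. -/
noncomputable def cE (v g : ℕ) : E := (tT par gen (nx v g))⁻¹ * gen g * tT par gen v

theorem mul_T_eq (v g : ℕ) : gen g * tT par gen v = tT par gen (nx v g) * cE nx par gen v g := by
  unfold cE
  group

theorem walk (MD : ExtMod σ K Rp) (U : ℕ → W) {nV : ℕ} (hnx : ∀ v g, v < nV → g < 2 → nx v g < nV)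
    {w : List ℕ} (hw : ∀ g ∈ w, g < 2) {v : ℕ} (hv : v < nV)
    (hU : ∀ e ∈ edgesOf nx w v, Rp (cE nx par gen (e / 2) (e % 2)) (U e)) :
    ∃ a, evalW gen w * tT par gen v = tT par gen (wEnd nx w v) * a ∧ Rp a ((edgesOf nx w v).map U).sum := by
  induction w generalizing v with
  | nil =>
    refine ⟨1, ?_, ?_⟩
    · simp [evalW, wEnd_nil]
    · simpa [edgesOf] using MD.one
  | cons g w ih =>
    have hg := hw g List.mem_cons_self
    obtain ⟨a, h1, h2⟩ := ih (fun g' hg' => hw g' (List.mem_cons_of_mem _ hg')) (hnx v g hv hg)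
      (fun e he => hU e (by simp only [edgesOf, List.mem_cons]; exact Or.inr he))
    have h3 := hU (Nat.add (Nat.mul 2 v) g) (by simp [edgesOf])
    have e1 : (Nat.add (Nat.mul 2 v) g) / 2 = v := by
      show (2 * v + g) / 2 = v
      omega
    have e2 : (Nat.add (Nat.mul 2 v) g) % 2 = g := by
      show (2 * v + g) % 2 = g
      omega
    rw [e1, e2] at h3
    refine ⟨a * cE nx par gen v g, ?_, ?_⟩
    · simp only [evalW, wEnd_cons]
      rw [mul_assoc, mul_T_eq nx par gen v g, ← mul_assoc, h1, mul_assoc]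
    · simp only [edgesOf, List.map_cons, List.sum_cons]
      rw [add_comm]
      exact MD.mul h2 h3

end Walk

end Cfsg.Agent.Lib.ExtCert.Basic
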