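import Cfsg.Agent.Lib.ExtCert.Solve

/-!
# Linear forms, change of lifts and the complement
-/

set_option autoImplicit false

namespace Cfsg.Agent.Lib.ExtCert.Final

open Cfsg Cfsg.Agent.Lib.Golay.Core Cfsg.Agent.Lib.Golay.Perm
open Cfsg.Agent.Lib.SchurCert.Elim Cfsg.Agent.Lib.SchurCert.Lift
open Cfsg.Agent.Lib.ExtCert.Basic Cfsg.Agent.Lib.ExtCert.Solve

/-! ### The dot product -/

/-- The dot product of words. -/
noncomputable def dotW (d u : W) : ZMod 2 := ∑ p, d p * u p

theorem dotW_add (d u v : W) : dotW d (u + v) = dotW d u + dotW d v := by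
  unfold dotW
  rw [← Finset.sum_add_distrib]
  apply Finset.sum_congr rfl
  intro p _
  simp [mul_add]

theorem add_dotW (d d' u : W) : dotW (d + d') u = dotW d u + dotW d' u := by
  unfold dotW
  rw [← Finset.sum_add_distrib]
  apply Finset.sum_congr rfl
  intro p _
  simp [add_mul]

theorem dotW_comp (d u : W) (π : Equiv.Perm GolayPt) : dotW d (u ∘ ⇑π⁻¹) = dotW (d ∘ ⇑π) u := by
  unfold dotW
  rw [← Equiv.sum_comp π]
  apply Finset.sum_congr rfl
  intro p _
  simp

theorem dotW_self_add (a : ZMod 2) : a + a = 0 := CharTwo.add_self_eq_zero a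

/-- The sum over the points and the sum over their numbers. -/
theorem sum_range_24 (F : ℕ → ZMod 2) : ∑ q ∈ Finset.range 24, F q = ∑ p : GolayPt, F (idx p) := by
  have h : Finset.range 24 = Finset.univ.image idx := by
    ext i
    simp only [Finset.mem_range, Finset.mem_image, Finset.mem_univ, true_and]
    constructor
    · intro hi
      exact ⟨pt i, idx_pt hi⟩
    · rintro ⟨p, rfl⟩
      exact idx_lt p
  rw [h, Finset.sum_image (fun a _ b _ hab => idx_injective hab)]

/-- Exclusive or of selected numbers below `k`. -/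
def selFk (d : ℕ) (f : ℕ → ℕ) (k : ℕ) : ℕ :=
  Nat.rec 0 (fun q ih => Nat.xor (cond (Nat.testBit d q) (f q) 0) ih) k

/-- Exclusive or of the rows selected by the mask `d`. -/
def selF (d : ℕ) (f : ℕ → ℕ) : ℕ := selFk d f 24

theorem evB_selFk (B : ℕ) (ρ : ℕ → ZMod 2) (d : ℕ) (f : ℕ → ℕ) (k : ℕ) :
    evB B ρ (selFk d f k) = ∑ q ∈ Finset.range k, if d.testBit q = true then evB B ρ (f q) else 0 := by
  induction k with
  | zero => simp [selFk, evB_zero]
  | succ k ih =>
    rw [Finset.sum_range_succ, ← ih]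
    show evB B ρ ((cond (Nat.testBit d k) (f k) 0) ^^^ selFk d f k) = _
    rw [evB_xor, add_comm]
    cases d.testBit k <;> simp [evB_zero]

theorem evB_selF (B : ℕ) (ρ : ℕ → ZMod 2) (d : ℕ) (f : ℕ → ℕ) :
    evB B ρ (selF d f) = ∑ p : GolayPt, wordOf d p * evB B ρ (f (idx p)) := by
  unfold selF
  rw [evB_selFk, sum_range_24]
  apply Finset.sum_congr rfl
  intro p _
  unfold wordOf
  cases d.testBit (idx p) <;> simp

theorem evB_selF_row (B : ℕ) (ρ : ℕ → ZMod 2) (d n : ℕ) :
    evB B ρ (selF d (fun q => rowOf B n q)) = dotW (wordOf d) (wM B ρ n) :=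
  evB_selF B ρ d _

/-- The parameter with given slot, as a form. -/
theorem evB_slot {B nP s d : ℕ} (rep : ℕ → W) (hB : B = 24 * nP) (hs : s < nP) (hd : d < 2 ^ 24) :
    evB B (rhoOf rep) (d <<< (24 * s)) = dotW (wordOf d) (rep s) := by
  unfold evB dotW
  set G : ℕ → ZMod 2 := fun b => if (d <<< (24 * s)).testBit b = true then rhoOf rep b else 0 with hG
  have hsub : (Finset.range 24).image (fun q => 24 * s + q) ⊆ Finset.range B := by
    intro b hb
    obtain ⟨q, hq, rfl⟩ := Finset.mem_image.mp hb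
    have hq' := Finset.mem_range.mp hq
    rw [Finset.mem_range, hB]
    have : 24 * (s + 1) ≤ 24 * nP := Nat.mul_le_mul_left _ hs
    omega
  have h0 : ∀ b ∈ Finset.range B, b ∉ (Finset.range 24).image (fun q => 24 * s + q) → G b = 0 := by
    intro b _ hb
    simp only [hG]
    rw [if_neg]
    intro hc
    rw [Nat.testBit_shiftLeft] at hc
    simp only [Bool.and_eq_true, decide_eq_true_eq] at hc
    apply hb
    refine Finset.mem_image.mpr ⟨b - 24 * s, Finset.mem_range.mpr ?_, by omega⟩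
    by_contra h3
    have h4 : (2 : ℕ) ^ 24 ≤ 2 ^ (b - 24 * s) := Nat.pow_le_pow_right (by norm_num) (by omega)
    have h5 := Nat.testBit_eq_false_of_lt (lt_of_lt_of_le hd h4)
    rw [h5] at hc
    exact absurd hc.2 (by simp)
  rw [← Finset.sum_subset hsub h0, Finset.sum_image (fun a _ b _ hab => by simpa using hab), sum_range_24]
  apply Finset.sum_congr rfl
  intro p _
  have hp := idx_lt p
  simp only [hG, wordOf, rhoOf]
  have e1 : (24 * s + idx p) / 24 = s := by omega
  have e2 : (24 * s + idx p) % 24 = idx p := by omega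
  rw [e1, e2, pt_idx, Nat.testBit_shiftLeft]
  have e3 : 24 * s + idx p - 24 * s = idx p := by omega
  rw [e3]
  simp

/-- Exclusive or of the members of a list selected by a mask. -/
def xorSel : List ℕ → ℕ → ℕ
  | [], _ => 0
  | a :: l, m => Nat.xor (cond (Nat.testBit m 0) a 0) (xorSel l (Nat.shiftRight m 1))

theorem evB_xorSel (B : ℕ) (ρ : ℕ → ZMod 2) {l : List ℕ} (h : ∀ a ∈ l, evB B ρ a = 0) (m : ℕ) :
    evB B ρ (xorSel l m) = 0 := by
  induction l generalizing m with
  | nil => simp [xorSel, evB_zero]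
  | cons a l ih =>
    show evB B ρ ((cond (Nat.testBit m 0) a 0) ^^^ xorSel l (Nat.shiftRight m 1)) = 0
    rw [evB_xor, ih (fun b hb => h b (List.mem_cons_of_mem _ hb))]
    cases m.testBit 0
    · simp [evB_zero]
    · simp [h a List.mem_cons_self]

/-! ### Parity of the meet of two bit vectors -/

/-- Exclusive or of a predicate on the numbers below `k`. -/
def xorUpTo (p : ℕ → Bool) (k : ℕ) : Bool := Nat.rec false (fun i ih => xor (p i) ih) k

/-- The value of a form on a bit vector. -/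
def parB (B D f : ℕ) : Bool := xorUpTo (fun b => Nat.testBit D b && Nat.testBit f b) B

/-- The bits of a number. -/
def bitsOf (D : ℕ) : ℕ → ZMod 2 := fun b => if D.testBit b = true then 1 else 0

theorem evB_bitsOf (B D f : ℕ) : evB B (bitsOf D) f = if parB B D f = true then 1 else 0 := by
  unfold parB evB bitsOf
  induction B with
  | zero => simp [xorUpTo]
  | succ B ih =>
    rw [Finset.sum_range_succ, ih]
    show _ = if xor (Nat.testBit D B && Nat.testBit f B) (xorUpTo (fun b => Nat.testBit D b && Nat.testBit f b) B) = true then 1 else 0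
    cases xorUpTo (fun b => Nat.testBit D b && Nat.testBit f b) B <;> cases D.testBit B <;> cases f.testBit B <;>
      simp <;> rfl

theorem evB_shift {B nT : ℕ} (ρ : ℕ → ZMod 2) (ε : ℕ → ZMod 2) (D : ℕ → ℕ) (f : ℕ) :
    evB B (fun b => ρ b + ∑ t ∈ Finset.range nT, ε t * bitsOf (D t) b) f =
      evB B ρ f + ∑ t ∈ Finset.range nT, ε t * evB B (bitsOf (D t)) f := by
  unfold evB
  simp only [Finset.mul_sum]
  rw [Finset.sum_comm, ← Finset.sum_add_distrib]
  apply Finset.sum_congr rfl
  intro b _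
  cases f.testBit b <;> simp

theorem evB_congr_rho {B : ℕ} {ρ ρ' : ℕ → ZMod 2} (h : ∀ b, b < B → ρ b = ρ' b) (f : ℕ) : evB B ρ f = evB B ρ' f := by
  unfold evB
  apply Finset.sum_congr rfl
  intro b hb
  rw [h b (Finset.mem_range.mp hb)]

/-! ### Fusion -/

section Fusion

variable {E : Type*} [Group E] {σ : E →* Equiv.Perm GolayPt} {K : AddSubgroup W} {Rp : E → W → Prop}

/-- The value of the square of a lift of an involution is preserved by conjugation. -/
theorem fusion (MD : ExtMod σ K Rp) (x x' y : E) {u u' : W} (hu : Rp (x * x) u) (hu' : Rp (x' * x') u') {d : W}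
    (hdx : d ∘ ⇑(σ x') = d) (hcomm : σ y * σ x = σ x' * σ y) (hdK : ∀ k ∈ K, dotW d k = 0) :
    dotW (d ∘ ⇑(σ y)) u = dotW d u' := by
  set a := y * x * y⁻¹ with ha
  have h1 : σ a = σ x' := by
    rw [ha, map_mul, map_mul, map_inv, hcomm]
    group
  obtain ⟨m, hm⟩ := MD.ex (a := a * x'⁻¹) (by rw [map_mul, map_inv, h1]; group)
  set n := a * x'⁻¹ with hn
  have h2 : a = n * x' := by
    rw [hn]
    group
  have h3 : a * a = y * (x * x) * y⁻¹ := by
    rw [ha]
    group
  have h4 : a * a = n * (x' * n * x'⁻¹) * (x' * x') := by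
    rw [h2]
    group
  have h5 : Rp (a * a) (u ∘ ⇑(σ y)⁻¹) := by
    rw [h3]
    exact MD.conj y hu
  have h6 : Rp (a * a) (m + m ∘ ⇑(σ x')⁻¹ + u') := by
    rw [h4]
    exact MD.mul (MD.mul hm (MD.conj x' hm)) hu'
  have h7 := hdK _ (MD.diff h5 h6)
  rw [dotW_add, dotW_add, dotW_add, dotW_comp, dotW_comp, hdx] at h7
  have h8 : dotW (d ∘ ⇑(σ y)) u + (dotW d m + dotW d m + dotW d u') = dotW (d ∘ ⇑(σ y)) u + dotW d u' := by
    rw [CharTwo.add_self_eq_zero, zero_add]
  rw [h8] at h7
  exact (CharTwo.add_eq_zero.mp h7)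

end Fusion

/-! ### Change of lifts -/

section Gauge

variable {E : Type*} [Group E] {σ : E →* Equiv.Perm GolayPt} {K : AddSubgroup W} {Rp : E → W → Prop}

/-- The change of the value of a walk. -/
noncomputable def gaugeE (nx : ℕ → ℕ → ℕ) (Fp : ℕ → Equiv.Perm GolayPt) (nw : ℕ → W) : List ℕ → ℕ → W
  | [], _ => 0
  | t :: w, v => gaugeE nx Fp nw w (nx v t) + (nw t ∘ ⇑(Fp (nx v t)) + nw t ∘ ⇑(Fp v))

variable {nV nR nP B : ℕ} {nx : ℕ → ℕ → ℕ} {par dat met Fc gc pS : ℕ → ℕ} {rel : ℕ → List ℕ}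

theorem gauge_walk (C : Cert nV nR nP B nx par dat met Fc gc pS rel) (MD : ExtMod σ K Rp) (gen : ℕ → E)
    (hgen : ∀ t, t < 2 → σ (gen t) = g (gc t)) (n : ℕ → E) (nw : ℕ → W) (hn : ∀ t, t < 2 → Rp (n t) (nw t))
    {w : List ℕ} (hw : ∀ t ∈ w, t < 2) {v : ℕ} (hv : v < nV) :
    ∃ δ, evalW (fun t => n t * gen t * (n t)⁻¹) w * tT par gen v = evalW gen w * tT par gen v * δ ∧
      Rp δ (gaugeE nx (fun v => g (Fc v)) nw w v) := by
  induction w generalizing v with
  | nil =>
    refine ⟨1, by simp [evalW], ?_⟩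
    exact MD.one
  | cons t w ih =>
    have ht := hw t List.mem_cons_self
    have hu := C.nx_lt v t hv ht
    obtain ⟨δ, h1, h2⟩ := ih (fun t' ht' => hw t' (List.mem_cons_of_mem _ ht')) hu
    set u := nx v t with hudef
    -- the change at this edge
    set m := n t * gen t * (n t)⁻¹ * (gen t)⁻¹ with hm
    have h3 : n t * gen t * (n t)⁻¹ = m * gen t := by
      rw [hm]
      group
    have hmR : Rp m (nw t + nw t ∘ ⇑(σ (gen t))⁻¹) := by
      have h4 : m = n t * (gen t * (n t)⁻¹ * (gen t)⁻¹) := by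
        rw [hm]
        group
      rw [h4]
      exact MD.mul (hn t ht) (MD.conj (gen t) (MD.inv (hn t ht)))
    set μ := (tT par gen u)⁻¹ * m * tT par gen u with hμ
    have hμR : Rp μ (nw t ∘ ⇑(g (Fc u)) + nw t ∘ ⇑(g (Fc v))) := by
      have h4 := MD.conj' (tT par gen u) hmR
      rw [sigma_T C gen hgen u hu] at h4
      have e : (nw t + nw t ∘ ⇑(σ (gen t))⁻¹) ∘ ⇑(g (Fc u)) = nw t ∘ ⇑(g (Fc u)) + nw t ∘ ⇑(g (Fc v)) := by
        funext p
        simp only [Function.comp_apply, Pi.add_apply]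
        congr 2
        rw [hgen t ht, hudef, g_step C hv ht]
        simp
      rw [e] at h4
      exact h4
    obtain ⟨uc, huc⟩ := MD.ex (sigma_cE C gen hgen hv ht)
    have hc1 : δ * μ * cE nx par gen v t = cE nx par gen v t * (δ * μ) := MD.comm (MD.mul h2 hμR) huc
    refine ⟨δ * μ, ?_, MD.mul h2 hμR⟩
    show evalW (fun t => n t * gen t * (n t)⁻¹) w * (n t * gen t * (n t)⁻¹) * tT par gen v =
      evalW gen w * gen t * tT par gen v * (δ * μ)
    have e5 : m * tT par gen u = tT par gen u * μ := by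
      rw [hμ]
      group
    rw [h3, mul_assoc (evalW _ w), mul_assoc m, mul_T_eq nx par gen v t, ← hudef, ← mul_assoc m, e5, mul_assoc (tT par gen u),
      ← mul_assoc (evalW _ w), h1, mul_assoc (evalW gen w) (gen t), mul_T_eq nx par gen v t, ← hudef]
    calc evalW gen w * tT par gen u * δ * (μ * cE nx par gen v t)
        = evalW gen w * tT par gen u * (δ * μ * cE nx par gen v t) := by group
      _ = evalW gen w * tT par gen u * (cE nx par gen v t * (δ * μ)) := by rw [hc1]
      _ = evalW gen w * (tT par gen u * cE nx par gen v t) * (δ * μ) := by group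

/-- The value of a gauge on a bit: the Boolean version. -/
noncomputable def gB (nx : ℕ → ℕ → ℕ) (Fc : ℕ → ℕ) (f : ℕ → ℕ) (q : ℕ) (w : List ℕ) : ℕ → Bool :=
  List.rec (motive := fun _ => ℕ → Bool) (fun _ => false)
    (fun t _ ih v => xor (xor (Nat.testBit (f t) (img (Fc (nx v t)) q)) (Nat.testBit (f t) (img (Fc v) q))) (ih (nx v t))) w

theorem gaugeE_word (C : Cert nV nR nP B nx par dat met Fc gc pS rel) (f : ℕ → ℕ) {w : List ℕ} (hw : ∀ t ∈ w, t < 2)
    {v : ℕ} (hv : v < nV) {q : ℕ} (hq : q < 24) :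
    gaugeE nx (fun v => g (Fc v)) (fun t => wordOf (f t)) w v (pt q) = if gB nx Fc f q w v = true then 1 else 0 := by
  induction w generalizing v with
  | nil => simp [gaugeE, gB]
  | cons t w ih =>
    have ht := hw t List.mem_cons_self
    have hu := C.nx_lt v t hv ht
    have h1 := ih (fun t' ht' => hw t' (List.mem_cons_of_mem _ ht')) hu
    have e : gB nx Fc f q (t :: w) v = xor (xor (Nat.testBit (f t) (img (Fc (nx v t)) q)) (Nat.testBit (f t) (img (Fc v) q)))
        (gB nx Fc f q w (nx v t)) := rfl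
    rw [e]
    simp only [gaugeE, Pi.add_apply, h1, Function.comp_apply]
    rw [g_pt (C.valid _ hu) hq, g_pt (C.valid _ hv) hq]
    simp only [wordOf]
    rw [idx_pt (valid_img_lt (C.valid _ hu) hq), idx_pt (valid_img_lt (C.valid _ hv) hq)]
    cases gB nx Fc f q w (nx v t) <;> cases Nat.testBit (f t) (img (Fc (nx v t)) q) <;>
      cases Nat.testBit (f t) (img (Fc v) q) <;> simp <;> rfl

theorem gaugeE_sum (Fp : ℕ → Equiv.Perm GolayPt) {nT : ℕ} (ε : ℕ → ZMod 2) (nwi : ℕ → ℕ → W) (w : List ℕ) (v : ℕ)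
    (p : GolayPt) :
    gaugeE nx Fp (fun t p => ∑ i ∈ Finset.range nT, ε i * nwi i t p) w v p =
      ∑ i ∈ Finset.range nT, ε i * gaugeE nx Fp (nwi i) w v p := by
  induction w generalizing v with
  | nil => simp [gaugeE]
  | cons t w ih =>
    simp only [gaugeE, Pi.add_apply, Function.comp_apply, ih, mul_add, Finset.sum_add_distrib]

end Gauge

end Cfsg.Agent.Lib.ExtCert.Final
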