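import Cfsg.Agent.Lib.ExtCert.Final
import Cfsg.Agent.Lib.SchurCert.Upper

/-!
# Complements from a certificate
-/

set_option autoImplicit false

namespace Cfsg.Agent.Lib.ExtCert.Main

open Cfsg Cfsg.Agent.Lib.Golay.Core Cfsg.Agent.Lib.Golay.Perm
open Cfsg.Agent.Lib.SchurCert.Elim Cfsg.Agent.Lib.SchurCert.Lift
open Cfsg.Agent.Lib.ExtCert.Basic Cfsg.Agent.Lib.ExtCert.Solve Cfsg.Agent.Lib.ExtCert.Final

/-- Data of a fusion relation: the involutions given by words `wx` and `wy`, and an element `Pg` of the big group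
taking the first to the second and the mask `d2` to the mask `d1`. -/
structure Fus where
  d1 : ℕ
  d2 : ℕ
  Pg : ℕ
  wx : List ℕ
  wy : List ℕ

section Forms

variable (nV B : ℕ) (nx : ℕ → ℕ → ℕ) (dat Fc : ℕ → ℕ) (rel : ℕ → List ℕ)

/-- A form from a closed walk. -/
noncomputable def resForm (c : ℕ × ℕ × ℕ) : ℕ :=
  selF c.1 (fun q => rowOf B (wXor nx dat (rel c.2.2) c.2.1) q ^^^ rowOf B (dat (2 * nV + c.2.2)) (img (Fc c.2.1) q))

/-- A form on one slot. -/
def parForm (c : ℕ × ℕ) : ℕ := c.1 <<< (24 * c.2)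

/-- A form from a fusion relation. -/
noncomputable def fusForm (f : Fus) : ℕ :=
  selF f.d2 (fun q => rowOf B (wXor nx dat (f.wx ++ f.wx) 0) q) ^^^
    selF f.d1 (fun q => rowOf B (wXor nx dat (f.wy ++ f.wy) 0) q)

/-- All known forms. -/
noncomputable def mkForms (conL : List (ℕ × ℕ × ℕ)) (parL : List (ℕ × ℕ)) (fusL : List Fus) (pivL cfL : List ℕ) : List ℕ :=
  conL.map (resForm nV B nx dat Fc rel) ++ parL.map parForm ++ fusL.map (fusForm B nx dat) ++ pivL ++ cfL

end Forms

/-- The check of the forms. -/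
structure FCert (nV nR nP B o0 o1 nT : ℕ) (nx : ℕ → ℕ → ℕ) (dat Fc pS : ℕ → ℕ) (rel : ℕ → List ℕ)
    (DG DB : List ℕ) (conL : List (ℕ × ℕ × ℕ)) (parL : List (ℕ × ℕ)) (fusL : List Fus) (pivL cfL formT : List ℕ)
    (selT : ℕ → ℕ) (nm : ℕ → ℕ → ℕ) (D : ℕ → ℕ) : Prop where
  rel0 : rel 0 = List.replicate o0 0
  rel1 : rel 1 = List.replicate o1 1
  pS_lt : ∀ s, s < nP → pS s < nR
  inj : ∀ u v, u < nV → v < nV → g (Fc u) = g (Fc v) → u = v
  con_ok : ∀ c ∈ conL, c.2.1 < nV ∧ c.2.2 < nR ∧ wEnd nx (rel c.2.2) c.2.1 = c.2.1 ∧ c.1 ∈ DG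
  par_ok : ∀ c ∈ parL, c.1 ∈ DB ∧ c.2 < nP ∧ c.1 < 2 ^ 24
  fus_ok : ∀ f ∈ fusL, (∀ t ∈ f.wx, t < 2) ∧ (∀ t ∈ f.wy, t < 2) ∧ wEnd nx f.wx (wEnd nx f.wx 0) = 0 ∧
    wEnd nx f.wy (wEnd nx f.wy 0) = 0 ∧ validPerm f.Pg = true ∧
    mapMask (Fc (wEnd nx f.wy 0)) f.d1 = f.d1 ∧ mapMask f.Pg f.d2 = f.d1 ∧
    ∀ q, q < 24 → img f.Pg (img (Fc (wEnd nx f.wx 0)) q) = img (Fc (wEnd nx f.wy 0)) (img f.Pg q)
  forms : mkForms nV B nx dat Fc rel conL parL fusL pivL cfL = formT
  dg_lt : ∀ d ∈ DG, d < 2 ^ 24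
  goals : ∀ s i, s < nP → i < DG.length →
    xorSel formT (selT (s * DG.length + i)) = DG.getD i 0 <<< (24 * s)
  Dbits : ∀ t s q, t < nT → s < nP → q < 24 →
    Nat.testBit (D t) (24 * s + q) = gB nx Fc (nm t) q (rel (pS s)) 0
  piv_len : pivL.length = nT
  mat : ∀ t t', t < nT → t' < nT → parB B (D t) (pivL.getD t' 0) = decide (t = t')
  cfinv : ∀ t, t < nT → ∀ f ∈ cfL, parB B (D t) f = false

theorem evalW_append' {Y : Type*} [Group Y] (gen : ℕ → Y) (a b : List ℕ) :
    evalW gen (a ++ b) = evalW gen b * evalW gen a := by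
  induction a with
  | nil => simp [evalW]
  | cons t a ih =>
    simp only [List.cons_append, evalW, ih, mul_assoc]

theorem dotW_wordOf_comp {P d d' : ℕ} (hP : validPerm P = true) (h : mapMask P d' = d) :
    wordOf d ∘ ⇑(g P) = wordOf d' := by
  funext p
  simp only [Function.comp_apply, wordOf]
  rw [idx_g hP, ← h, testBit_mapMask_img hP d' (idx_lt p)]

section Main

variable {nV nR nP B o0 o1 nT : ℕ} {nx : ℕ → ℕ → ℕ} {par dat met Fc gc pS : ℕ → ℕ} {rel : ℕ → List ℕ}
  {DG DB : List ℕ} {conL : List (ℕ × ℕ × ℕ)} {parL : List (ℕ × ℕ)} {fusL : List Fus} {pivL cfL formT : List ℕ}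
  {selT : ℕ → ℕ} {nm : ℕ → ℕ → ℕ} {D : ℕ → ℕ}
  {E : Type*} [Group E] {σ : E →* Equiv.Perm GolayPt} {K : AddSubgroup W} {Rp : E → W → Prop}

theorem wEnd_lt (C : Cert nV nR nP B nx par dat met Fc gc pS rel) {w : List ℕ} (hw : ∀ t ∈ w, t < 2) {v : ℕ}
    (hv : v < nV) : wEnd nx w v < nV := by
  induction w generalizing v with
  | nil => exact hv
  | cons t w ih =>
    rw [wEnd_cons]
    exact ih (fun t' ht' => hw t' (List.mem_cons_of_mem _ ht')) (C.nx_lt v t hv (hw t List.mem_cons_self))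

theorem evB_resForm (ρ : ℕ → ZMod 2) (c : ℕ × ℕ × ℕ) (hP : validPerm (Fc c.2.1) = true) :
    evB B ρ (resForm nV B nx dat Fc rel c) =
      dotW (wordOf c.1) (wM B ρ (wXor nx dat (rel c.2.2) c.2.1) + wM B ρ (dat (2 * nV + c.2.2)) ∘ ⇑(g (Fc c.2.1))) := by
  unfold resForm dotW
  rw [evB_selF]
  apply Finset.sum_congr rfl
  intro p _
  rw [evB_xor]
  simp only [Pi.add_apply, Function.comp_apply, wM]
  rw [idx_g hP]

theorem wEnd_append (a b : List ℕ) (v : ℕ) : wEnd nx (a ++ b) v = wEnd nx b (wEnd nx a v) := by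
  induction a generalizing v with
  | nil => rfl
  | cons t a ih => exact ih _

theorem square_value (C : Cert nV nR nP B nx par dat met Fc gc pS rel) (MD : ExtMod σ K Rp) (gen : ℕ → E)
    {ρ : ℕ → ZMod 2} (hsol : ∀ x, x < 2 * nV + nR → Rp (vL nV nx par rel gen x) (wM B ρ (dat x))) {w : List ℕ}
    (hw : ∀ t ∈ w, t < 2) (hcl : wEnd nx w (wEnd nx w 0) = 0) :
    Rp (evalW gen w * evalW gen w) (wM B ρ (wXor nx dat (w ++ w) 0)) := by
  have hww : ∀ t ∈ w ++ w, t < 2 := by
    intro t ht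
    rcases List.mem_append.mp ht with h | h <;> exact hw t h
  have hval := word_value C MD gen hsol hww (by rw [wEnd_append, hcl])
  rwa [evalW_append'] at hval

theorem fus_zero (C : Cert nV nR nP B nx par dat met Fc gc pS rel) (MD : ExtMod σ K Rp) (gen : ℕ → E)
    (hgen : ∀ t, t < 2 → σ (gen t) = g (gc t)) {ρ : ℕ → ZMod 2}
    (hsol : ∀ x, x < 2 * nV + nR → Rp (vL nV nx par rel gen x) (wM B ρ (dat x))) {c : Fus}
    (hf : (∀ t ∈ c.wx, t < 2) ∧ (∀ t ∈ c.wy, t < 2) ∧ wEnd nx c.wx (wEnd nx c.wx 0) = 0 ∧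
      wEnd nx c.wy (wEnd nx c.wy 0) = 0 ∧ validPerm c.Pg = true ∧
      mapMask (Fc (wEnd nx c.wy 0)) c.d1 = c.d1 ∧ mapMask c.Pg c.d2 = c.d1 ∧
      ∀ q, q < 24 → img c.Pg (img (Fc (wEnd nx c.wx 0)) q) = img (Fc (wEnd nx c.wy 0)) (img c.Pg q))
    (hy : ∃ y, σ y = g c.Pg) (hcK : ∀ k ∈ K, dotW (wordOf c.d1) k = 0) : evB B ρ (fusForm B nx dat c) = 0 := by
  obtain ⟨hc1, hc1', hc2, hc2', hc3, hc4, hc5, hc6⟩ := hf
  obtain ⟨y, hy⟩ := hy
  have hval := square_value C MD gen hsol hc1 hc2
  have hval' := square_value C MD gen hsol hc1' hc2'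
  have hvx := wEnd_lt C hc1 C.hnV
  have hvy := wEnd_lt C hc1' C.hnV
  have hsx : σ (evalW gen c.wx) = g (Fc (wEnd nx c.wx 0)) := by
    have := sigma_evalW C gen hgen hc1 C.hnV
    rwa [tT_zero, mul_one] at this
  have hsy : σ (evalW gen c.wy) = g (Fc (wEnd nx c.wy 0)) := by
    have := sigma_evalW C gen hgen hc1' C.hnV
    rwa [tT_zero, mul_one] at this
  have hd1 : wordOf c.d1 ∘ ⇑(σ (evalW gen c.wy)) = wordOf c.d1 := by
    rw [hsy]
    exact dotW_wordOf_comp (C.valid _ hvy) hc4
  have hcm : σ y * σ (evalW gen c.wx) = σ (evalW gen c.wy) * σ y := by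
    rw [hsx, hsy, hy]
    ext p
    simp only [Equiv.Perm.mul_apply]
    rw [g_apply hc3, g_apply (C.valid _ hvx), g_apply (C.valid _ hvy), g_apply hc3]
    rw [idx_pt (valid_img_lt (C.valid _ hvx) (idx_lt p)), idx_pt (valid_img_lt hc3 (idx_lt p)), hc6 _ (idx_lt p)]
  have hfu := fusion MD (evalW gen c.wx) (evalW gen c.wy) y hval hval' hd1 hcm hcK
  rw [hy, dotW_wordOf_comp hc3 hc5] at hfu
  unfold fusForm
  rw [evB_xor, evB_selF_row, evB_selF_row, hfu]
  exact CharTwo.add_self_eq_zero _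

/-- The key of a permutation. -/
def keyFk (P k : ℕ) : ℕ := Nat.rec 0 (fun i ih => Nat.add (Nat.mul ih 32) (img P i)) k

/-- The key of a permutation. -/
def keyF (P : ℕ) : ℕ := keyFk P 24

theorem keyF_of_g {P Q : ℕ} (hP : validPerm P = true) (hQ : validPerm Q = true) (h : g P = g Q) : keyF P = keyF Q := by
  have h1 : ∀ i, i < 24 → img P i = img Q i := by
    intro i hi
    have h2 := congrArg (fun π : Equiv.Perm GolayPt => π (pt i)) h
    simp only [g_pt hP hi, g_pt hQ hi] at h2
    exact pt_injOn (valid_img_lt hP hi) (valid_img_lt hQ hi) h2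
  have h3 : ∀ k, k ≤ 24 → keyFk P k = keyFk Q k := by
    intro k hk
    induction k with
    | zero => rfl
    | succ k ih =>
      show Nat.add (Nat.mul (keyFk P k) 32) (img P k) = Nat.add (Nat.mul (keyFk Q k) 32) (img Q k)
      rw [ih (by omega), h1 k (by omega)]
  exact h3 24 le_rfl

/-- Injectivity on the vertices from a sorted list. -/
theorem inj_of_srt {n : ℕ} {Fc srt : ℕ → ℕ} (hv : ∀ v, v < n → validPerm (Fc v) = true) (hs : ∀ i, i < n → srt i < n)
    (hinc : ∀ i, i + 1 < n → keyF (Fc (srt i)) < keyF (Fc (srt (i + 1)))) :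
    ∀ u v, u < n → v < n → g (Fc u) = g (Fc v) → u = v := by
  have hmono : ∀ i j, i < j → j < n → keyF (Fc (srt i)) < keyF (Fc (srt j)) := by
    intro i j hij hj
    induction j with
    | zero => omega
    | succ j ih =>
      rcases Nat.lt_succ_iff_lt_or_eq.mp hij with h | h
      · exact lt_trans (ih h (by omega)) (hinc j hj)
      · rw [h]
        exact hinc j hj
  have hne : ∀ i j, i < n → j < n → keyF (Fc (srt i)) = keyF (Fc (srt j)) → i = j := by
    intro i j hi hj h
    rcases Nat.lt_trichotomy i j with h1 | h1 | h1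
    · exact absurd h (ne_of_lt (hmono i j h1 hj))
    · exact h1
    · exact absurd h.symm (ne_of_lt (hmono j i h1 hi))
  have hsurj : ∀ u, u < n → ∃ i, i < n ∧ srt i = u := by
    have himg : (Finset.range n).image srt = Finset.range n := by
      apply Finset.eq_of_subset_of_card_le
      · intro x hx
        obtain ⟨i, hi, rfl⟩ := Finset.mem_image.mp hx
        exact Finset.mem_range.mpr (hs i (Finset.mem_range.mp hi))
      · rw [Finset.card_image_of_injOn]
        intro i hi j hj hij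
        have hi' := Finset.mem_range.mp hi
        have hj' := Finset.mem_range.mp hj
        exact hne i j hi' hj' (by rw [hij])
    intro u hu
    have : u ∈ (Finset.range n).image srt := by
      rw [himg]
      exact Finset.mem_range.mpr hu
    obtain ⟨i, hi, h⟩ := Finset.mem_image.mp this
    exact ⟨i, Finset.mem_range.mp hi, h⟩
  intro u v hu hv' h
  obtain ⟨i, hi, rfl⟩ := hsurj u hu
  obtain ⟨j, hj, rfl⟩ := hsurj v hv'
  rw [hne i j hi hj (keyF_of_g (hv _ hu) (hv _ hv') h)]

/-- A subgroup mapping isomorphically onto the vertices, once all edges have trivial values. -/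
theorem complement_of_trivial [Finite E] (C : Cert nV nR nP B nx par dat met Fc gc pS rel)
    (hinj : ∀ u v, u < nV → v < nV → g (Fc u) = g (Fc v) → u = v) (gen : ℕ → E)
    (hgen : ∀ t, t < 2 → σ (gen t) = g (gc t)) (hc : ∀ v t, v < nV → t < 2 → cE nx par gen v t = 1) :
    ∃ A : Subgroup E, Nat.card A = nV ∧ ∀ a ∈ A, σ a = 1 → a = 1 := by
  have hstep : ∀ v t, v < nV → t < 2 → gen t * tT par gen v = tT par gen (nx v t) := by
    intro v t hv ht
    rw [mul_T_eq nx par gen v t, hc v t hv ht, mul_one]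
  let S : Submonoid E :=
    { carrier := {y | ∀ v, v < nV → ∃ u, u < nV ∧ y * tT par gen v = tT par gen u}
      one_mem' := fun v hv => ⟨v, hv, one_mul _⟩
      mul_mem' := by
        intro y y' hy hy' v hv
        obtain ⟨u, hu, h1⟩ := hy' v hv
        obtain ⟨u', hu', h2⟩ := hy u hu
        exact ⟨u', hu', by rw [mul_assoc, h1, h2]⟩ }
  set A := Subgroup.closure ({gen 0, gen 1} : Set E) with hA
  have hgenS : ∀ t, t < 2 → gen t ∈ S := fun t ht v hv => ⟨nx v t, C.nx_lt v t hv ht, hstep v t hv ht⟩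
  have hAS : ∀ a ∈ A, a ∈ S := by
    intro a ha
    induction ha using Subgroup.closure_induction with
    | mem x hx =>
      rcases hx with rfl | rfl
      · exact hgenS 0 (by decide)
      · exact hgenS 1 (by decide)
    | one => exact S.one_mem
    | mul x y _ _ hx hy => exact S.mul_mem hx hy
    | inv x _ hx =>
      have h3 : x⁻¹ = x ^ (orderOf x - 1) := by
        apply inv_eq_of_mul_eq_one_right
        rw [← pow_succ', Nat.sub_add_cancel (orderOf_pos x), pow_orderOf_eq_one]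
      rw [h3]
      exact S.pow_mem hx _
  have hTA : ∀ v, v < nV → tT par gen v ∈ A := by
    intro v
    induction v using Nat.strong_induction_on with
    | _ v ih =>
      intro hv
      rcases Nat.eq_zero_or_pos v with rfl | h2
      · rw [tT_zero]
        exact A.one_mem
      · obtain ⟨h1, -⟩ := C.tree v h2 hv
        rw [tT_eq, dif_pos ⟨h2, h1⟩]
        apply A.mul_mem
        · apply Subgroup.subset_closure
          have := pgV_lt par v
          have h3 : pgV par v = 0 ∨ pgV par v = 1 := by omega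
          rcases h3 with h3 | h3 <;> rw [h3] <;> simp
        · exact ih _ h1 (by omega)
  have hAT : ∀ a ∈ A, ∃ u, u < nV ∧ a = tT par gen u := by
    intro a ha
    obtain ⟨u, hu, h1⟩ := hAS a ha 0 C.hnV
    rw [tT_zero, mul_one] at h1
    exact ⟨u, hu, h1⟩
  refine ⟨A, ?_, ?_⟩
  · let φ : Fin nV → A := fun v => ⟨tT par gen v.1, hTA v.1 v.2⟩
    have hφ : Function.Bijective φ := by
      constructor
      · intro u v h
        have h1 : tT par gen u.1 = tT par gen v.1 := congrArg Subtype.val h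
        have h2 := congrArg σ h1
        rw [sigma_T C gen hgen _ u.2, sigma_T C gen hgen _ v.2] at h2
        exact Fin.ext (hinj _ _ u.2 v.2 h2)
      · intro a
        obtain ⟨u, hu, h1⟩ := hAT a.1 a.2
        exact ⟨⟨u, hu⟩, Subtype.ext h1.symm⟩
    rw [← Nat.card_congr (Equiv.ofBijective φ hφ), Nat.card_eq_fintype_card, Fintype.card_fin]
  · intro a ha h1
    obtain ⟨u, hu, rfl⟩ := hAT a ha
    rw [sigma_T C gen hgen _ hu] at h1
    have h2 : g (Fc u) = g (Fc 0) := by rw [h1, g_zero C]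
    rw [hinj _ _ hu C.hnV h2, tT_zero]

set_option maxHeartbeats 4000000 in
/-- **A complement over the subgroup of the Cayley graph.** -/
theorem main [Finite E] (C : Cert nV nR nP B nx par dat met Fc gc pS rel)
    (F : FCert nV nR nP B o0 o1 nT nx dat Fc pS rel DG DB conL parL fusL pivL cfL formT selT nm D)
    (MD : ExtMod σ K Rp)
    (hDK : ∀ d ∈ DG, ∀ k ∈ K, dotW (wordOf d) k = 0)
    (hDG : ∀ u, (∀ d ∈ DG, dotW (wordOf d) u = 0) → u ∈ K)
    (hDB : ∀ {a u}, Rp a u → ∀ d ∈ DB, dotW (wordOf d) u = 0)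
    (hreal : ∀ i t, i < nT → t < 2 → ∃ ν, Rp ν (wordOf (nm i t)))
    (hfus : ∀ f ∈ fusL, (∃ y, σ y = g f.Pg) ∧ ∀ k ∈ K, dotW (wordOf f.d1) k = 0)
    (gen : ℕ → E) (hgen : ∀ t, t < 2 → σ (gen t) = g (gc t)) (h0 : gen 0 ^ o0 = 1) (h1 : gen 1 ^ o1 = 1)
    (rep : ℕ → W) (hrep : ∀ s, s < nP → Rp (evalW gen (rel (pS s))) (rep s))
    (hcf : ∀ f ∈ cfL, evB B (rhoOf rep) f = 0) :
    ∃ A : Subgroup E, Nat.card A = nV ∧ ∀ a ∈ A, σ a = 1 → a = 1 := by
  set ρ := rhoOf rep with hρ
  set ε : ℕ → ZMod 2 := fun i => evB B ρ (pivL.getD i 0) with hε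
  set nw : ℕ → W := fun t p => ∑ i ∈ Finset.range nT, ε i * wordOf (nm i t) p with hnw
  -- the elements realising the change of lifts
  have hex : ∀ k t, k ≤ nT → t < 2 → ∃ x, Rp x (fun p => ∑ i ∈ Finset.range k, ε i * wordOf (nm i t) p) := by
    intro k t hk ht
    induction k with
    | zero =>
      refine ⟨1, ?_⟩
      have : (fun p : GolayPt => ∑ i ∈ Finset.range 0, ε i * wordOf (nm i t) p) = 0 := by
        funext p
        simp
      rw [this]
      exact MD.one
    | succ k ih =>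
      obtain ⟨x, hx⟩ := ih (by omega)
      obtain ⟨ν, hν⟩ := hreal k t (by omega) ht
      have e : ∀ a : ZMod 2, a = 0 ∨ a = 1 := by decide
      rcases e (ε k) with h | h
      · refine ⟨x, ?_⟩
        have : (fun p : GolayPt => ∑ i ∈ Finset.range (k + 1), ε i * wordOf (nm i t) p) =
            fun p => ∑ i ∈ Finset.range k, ε i * wordOf (nm i t) p := by
          funext p
          rw [Finset.sum_range_succ, h]
          simp
        rw [this]
        exact hx
      · refine ⟨x * ν, ?_⟩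
        have : (fun p : GolayPt => ∑ i ∈ Finset.range (k + 1), ε i * wordOf (nm i t) p) =
            (fun p => ∑ i ∈ Finset.range k, ε i * wordOf (nm i t) p) + wordOf (nm k t) := by
          funext p
          rw [Finset.sum_range_succ, h]
          simp
        rw [this]
        exact MD.mul hx hν
  have hex' : ∀ t, ∃ x, t < 2 → Rp x (nw t) := by
    intro t
    by_cases ht : t < 2
    · obtain ⟨x, hx⟩ := hex nT t le_rfl ht
      exact ⟨x, fun _ => hx⟩
    · exact ⟨1, fun h => absurd h ht⟩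
  choose n hn using hex'
  -- the new lifts
  set gen' : ℕ → E := fun t => n t * gen t * (n t)⁻¹ with hgen'
  have hgen2 : ∀ t, t < 2 → σ (gen' t) = g (gc t) := by
    intro t ht
    simp only [hgen', map_mul, map_inv, MD.ker (hn t ht), hgen t ht]
    group
  have hR0 : ∀ j, rel j = List.replicate (if j = 0 then o0 else o1) (if j = 0 then 0 else 1) → j < 2 →
      evalW gen' (rel j) = 1 := by
    intro j hj hj2
    rw [hj, Cfsg.Agent.Lib.SchurCert.Upper.evalW_replicate]
    have hj3 : j = 0 ∨ j = 1 := by omega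
    rcases hj3 with rfl | rfl
    · simp only [if_true, hgen', conj_pow, h0]
      group
    · simp only [one_ne_zero, if_false, hgen', conj_pow, h1]
      group
  have h0' : evalW gen' (rel 0) = 1 := hR0 0 (by simpa using F.rel0) (by decide)
  have h1' : evalW gen' (rel 1) = 1 := hR0 1 (by simpa using F.rel1) (by decide)
  -- the new values
  set rep' : ℕ → W := fun s => rep s + gaugeE nx (fun v => g (Fc v)) nw (rel (pS s)) 0 with hrep'def
  have hrep' : ∀ s, s < nP → Rp (evalW gen' (rel (pS s))) (rep' s) := by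
    intro s hs
    obtain ⟨δ, h2, h3⟩ := gauge_walk C MD gen hgen n nw hn (C.rel_lt _ (F.pS_lt s hs)) C.hnV
    rw [tT_zero, mul_one, mul_one] at h2
    rw [h2]
    exact MD.mul (hrep s hs) h3
  have hsol := solve C MD gen' hgen2 h0' h1' rep' hrep'
  set ρ' := rhoOf rep' with hρ'
  -- the change of the bits
  have hbits : ∀ b, b < B → ρ' b = ρ b + ∑ i ∈ Finset.range nT, ε i * bitsOf (D i) b := by
    intro b hb
    have hB := C.hB
    have hs : b / 24 < nP := by
      rw [hB] at hb
      exact Nat.div_lt_of_lt_mul hb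
    have hq : b % 24 < 24 := Nat.mod_lt _ (by norm_num)
    have eb : 24 * (b / 24) + b % 24 = b := Nat.div_add_mod b 24
    have hpS := F.pS_lt _ hs
    show rep (b / 24) (pt (b % 24)) + gaugeE nx (fun v => g (Fc v)) nw (rel (pS (b / 24))) 0 (pt (b % 24)) = _
    congr 1
    have e1 := gaugeE_sum (nx := nx) (nT := nT) (fun v => g (Fc v)) ε (fun i t => wordOf (nm i t)) (rel (pS (b / 24))) 0 (pt (b % 24))
    rw [hnw, e1]
    apply Finset.sum_congr rfl
    intro i hi
    rw [gaugeE_word C (nm i) (C.rel_lt _ hpS) C.hnV hq, ← F.Dbits i _ _ (Finset.mem_range.mp hi) hs hq, eb]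
    rfl
  have hev : ∀ f, evB B ρ' f = evB B ρ f + ∑ i ∈ Finset.range nT, ε i * (if parB B (D i) f = true then 1 else 0) := by
    intro f
    rw [evB_congr_rho hbits f, evB_shift]
    simp only [evB_bitsOf]
  -- all known forms vanish
  have hZ : ∀ f ∈ formT, evB B ρ' f = 0 := by
    intro f hf
    rw [← F.forms] at hf
    simp only [mkForms, List.mem_append, List.mem_map] at hf
    rcases hf with (((⟨c, hc, rfl⟩ | ⟨c, hc, rfl⟩) | ⟨c, hc, rfl⟩) | hf) | hf
    · -- closed walks
      obtain ⟨hc1, hc2, hc3, hc4⟩ := F.con_ok c hc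
      have h2 := closed_res C MD gen' hgen2 hsol hc1 hc2 hc3
      rw [evB_resForm _ c (C.valid _ hc1)]
      exact hDK _ hc4 _ h2
    · -- parity
      obtain ⟨hc1, hc2, hc3⟩ := F.par_ok c hc
      unfold parForm
      rw [evB_slot rep' C.hB hc2 hc3]
      exact hDB (hrep' _ hc2) _ hc1
    · -- fusion
      exact fus_zero C MD gen' hgen2 hsol (F.fus_ok c hc) (hfus c hc).1 (hfus c hc).2
    · -- pivots
      obtain ⟨i, hi, rfl⟩ := List.mem_iff_getElem.mp hf
      rw [hev]
      have hi' : i < nT := by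
        rw [← F.piv_len]
        exact hi
      have e1 : pivL[i] = pivL.getD i 0 := by
        rw [List.getD_eq_getElem _ _ hi]
      have e2 : ∑ j ∈ Finset.range nT, ε j * (if parB B (D j) (pivL.getD i 0) = true then 1 else 0) = ε i := by
        rw [Finset.sum_eq_single i]
        · rw [F.mat i i hi' hi']
          simp
        · intro j hj hji
          rw [F.mat j i (Finset.mem_range.mp hj) hi']
          simp [hji]
        · intro h
          exact absurd (Finset.mem_range.mpr hi') h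
      rw [e1, e2]
      exact CharTwo.add_self_eq_zero _
    · -- class forms
      rw [hev, hcf f hf]
      have : ∑ j ∈ Finset.range nT, ε j * (if parB B (D j) f = true then 1 else 0) = 0 := by
        apply Finset.sum_eq_zero
        intro j hj
        rw [F.cfinv j (Finset.mem_range.mp hj) f hf]
        simp
      rw [this, add_zero]
  -- the parameters vanish
  have hK : ∀ s, s < nP → rep' s ∈ K := by
    intro s hs
    apply hDG
    intro d hd
    obtain ⟨i, hi, rfl⟩ := List.mem_iff_getElem.mp hd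
    rw [← evB_slot rep' C.hB hs (F.dg_lt _ hd)]
    have h2 := F.goals s i hs hi
    rw [List.getD_eq_getElem _ _ hi] at h2
    rw [← h2]
    exact evB_xorSel B ρ' hZ _
  have hone : ∀ s, s < nP → evalW gen' (rel (pS s)) = 1 := fun s hs => MD.triv (hrep' s hs) (hK s hs)
  -- the values with trivial parameters
  have hsol0 := solve C MD gen' hgen2 h0' h1' (fun _ => 0) (fun s hs => by
    rw [hone s hs]
    exact MD.one)
  have hrho0 : rhoOf (fun _ => (0 : W)) = fun _ => 0 := rfl
  rw [hrho0] at hsol0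
  have hc : ∀ v t, v < nV → t < 2 → cE nx par gen' v t = 1 := by
    intro v t hv ht
    have hx : 2 * v + t < 2 * nV := by omega
    have h2 := hsol0 (2 * v + t) (by omega)
    rw [wM_rho_zero, vL_edge gen' hx] at h2
    have e1 : (2 * v + t) / 2 = v := by omega
    have e2 : (2 * v + t) % 2 = t := by omega
    rw [e1, e2] at h2
    exact MD.triv h2 K.zero_mem
  exact complement_of_trivial C F.inj gen' hgen2 hc

end Main

end Cfsg.Agent.Lib.ExtCert.Main
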