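import Cfsg.Agent.Lib.ExtCert.Basic

/-!
# The table of an extension certificate, and the values of all edges
-/

set_option autoImplicit false

namespace Cfsg.Agent.Lib.ExtCert.Solve

open Cfsg Cfsg.Agent.Lib.Golay.Core Cfsg.Agent.Lib.Golay.Perm
open Cfsg.Agent.Lib.SchurCert.Elim Cfsg.Agent.Lib.SchurCert.Lift
open Cfsg.Agent.Lib.ExtCert.Basic

/-- The rank of a variable. -/
def mRank (n : ℕ) : ℕ := Nat.land n 8191

/-- The vertex of the equation of a variable, or its slot. -/
def mV (n : ℕ) : ℕ := Nat.land (Nat.shiftRight n 13) 8191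

/-- The relator of the equation of a variable. -/
def mJ (n : ℕ) : ℕ := Nat.shiftRight n 26

/-- The rows of `a` are the rows of `b` permuted. -/
def rowsEq (B a b P : ℕ) : Bool := allUpTo (fun q => Nat.beq (rowOf B a q) (rowOf B b (img P q))) 24

/-- The rows of the parameter of slot `s`. -/
def unitRows (B s n : ℕ) : Bool :=
  allUpTo (fun q => Nat.beq (rowOf B n q) (Nat.shiftLeft 1 (Nat.add (Nat.mul 24 s) q))) 24

section Table

variable (nV nR nP B : ℕ) (nx : ℕ → ℕ → ℕ) (par dat met Fc pS : ℕ → ℕ) (rel : ℕ → List ℕ)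

/-- The check of an equation. -/
noncomputable def eqnCore (x r v j : ℕ) (w : List ℕ) : Bool :=
  Nat.blt v nV && Nat.blt j nR && Nat.beq (wEnd nx w v) v &&
    rowsEq B (wXor nx dat w v) (dat (Nat.add (Nat.mul 2 nV) j)) (Fc v) &&
    (cond (Nat.beq x (Nat.add (Nat.mul 2 nV) j)) (Nat.beq (wCount nx x w v) 0)
      (Nat.beq (wCount nx x w v) 1 && Nat.blt (mRank (met (Nat.add (Nat.mul 2 nV) j))) r)) &&
    wLow nx (fun y => mRank (met y)) x r w v

/-- The check of an equation, from the table. -/
noncomputable def eqnOK (x : ℕ) : Bool :=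
  eqnCore nV nR B nx dat met Fc x (mRank (met x)) (mV (met x)) (mJ (met x)) (rel (mJ (met x)))

/-- The check of a tree edge. -/
def treeOK (x y : ℕ) : Bool :=
  !(Nat.beq y 0) && Nat.beq x (Nat.add (Nat.mul 2 (parV par y)) (pgV par y)) && Nat.beq (dat x) 0

/-- The check of a base variable given by a relator. -/
def relBaseOK (j s n : ℕ) : Bool :=
  (Nat.blt j 2 && Nat.beq n 0) || (Nat.blt s nP && Nat.beq (pS s) j && unitRows B s n)

/-- The check of a base variable. -/
def baseOK (x : ℕ) : Bool :=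
  cond (Nat.blt x (Nat.mul 2 nV))
    (treeOK par dat x (nx (Nat.shiftRight x 1) (Nat.land x 1)))
    (relBaseOK nP B pS (Nat.sub x (Nat.mul 2 nV)) (mV (met x)) (dat x))

/-- The check of a variable. -/
noncomputable def varOK (x : ℕ) : Bool :=
  baseOK nV nP B nx par dat met pS x || eqnOK nV nR B nx dat met Fc rel x

end Table

/-- Everything the kernel has to check. -/
structure Cert (nV nR nP B : ℕ) (nx : ℕ → ℕ → ℕ) (par dat met Fc gc pS : ℕ → ℕ) (rel : ℕ → List ℕ) : Prop where
  hnV : 0 < nV
  hB : B = 24 * nP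
  hnR : 2 ≤ nR
  nx_lt : ∀ v g, v < nV → g < 2 → nx v g < nV
  tree : ∀ v, 0 < v → v < nV → parV par v < v ∧ nx (parV par v) (pgV par v) = v
  valid : ∀ v, v < nV → validPerm (Fc v) = true
  gvalid : ∀ g, g < 2 → validPerm (gc g) = true
  F0 : ∀ q, q < 24 → img (Fc 0) q = q
  Fstep : ∀ v g q, v < nV → g < 2 → q < 24 → img (Fc (nx v g)) q = img (gc g) (img (Fc v) q)
  rel_lt : ∀ j, j < nR → ∀ g ∈ rel j, g < 2
  rel_loop : ∀ j, j < nR → wEnd nx (rel j) 0 = 0
  var : ∀ x, x < 2 * nV + nR → varOK nV nR nP B nx par dat met Fc pS rel x = true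

/-- The bits of the parameters. -/
def rhoOf (rep : ℕ → W) : ℕ → ZMod 2 := fun b => rep (b / 24) (pt (b % 24))

theorem evB_unit {B i : ℕ} (ρ : ℕ → ZMod 2) (hi : i < B) : evB B ρ (1 <<< i) = ρ i := by
  unfold evB
  rw [Finset.sum_eq_single i]
  · simp [Nat.one_shiftLeft, Nat.testBit_two_pow]
  · intro b _ hb
    have : ¬ i = b := fun h => hb h.symm
    simp [Nat.one_shiftLeft, Nat.testBit_two_pow, this]
  · intro h
    exact absurd (Finset.mem_range.mpr hi) h

theorem wM_eq_of_unitRows {B s n nP : ℕ} (hB : B = 24 * nP) (hs : s < nP) (h : unitRows B s n = true) (rep : ℕ → W) :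
    wM B (rhoOf rep) n = rep s := by
  funext p
  have h1 := allUpTo_iff.mp h (idx p) (idx_lt p)
  have h2 := Nat.eq_of_beq_eq_true h1
  have hp := idx_lt p
  have e : Nat.shiftLeft 1 (Nat.add (Nat.mul 24 s) (idx p)) = 1 <<< (24 * s + idx p) := rfl
  rw [e] at h2
  have hlt : 24 * s + idx p < B := by
    rw [hB]
    have : 24 * (s + 1) ≤ 24 * nP := Nat.mul_le_mul_left _ hs
    omega
  show evB B (rhoOf rep) (rowOf B n (idx p)) = _
  rw [h2, evB_unit _ hlt]
  show rep ((24 * s + idx p) / 24) (pt ((24 * s + idx p) % 24)) = _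
  have e1 : (24 * s + idx p) / 24 = s := by omega
  have e2 : (24 * s + idx p) % 24 = idx p := by omega
  rw [e1, e2, pt_idx]

theorem wM_eq_of_rowsEq {B a b P : ℕ} (hP : validPerm P = true) (h : rowsEq B a b P = true) (ρ : ℕ → ZMod 2) :
    wM B ρ a = wM B ρ b ∘ ⇑(g P) := by
  funext p
  have h1 := Nat.eq_of_beq_eq_true (allUpTo_iff.mp h (idx p) (idx_lt p))
  show evB B ρ (rowOf B a (idx p)) = evB B ρ (rowOf B b (idx (g P p)))
  rw [idx_g hP, h1]

section Main

variable {nV nR nP B : ℕ} {nx : ℕ → ℕ → ℕ} {par dat met Fc gc pS : ℕ → ℕ} {rel : ℕ → List ℕ}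

theorem g_step (C : Cert nV nR nP B nx par dat met Fc gc pS rel) {v t : ℕ} (hv : v < nV) (ht : t < 2) :
    g (Fc (nx v t)) = g (gc t) * g (Fc v) := by
  ext p
  have hnx := C.nx_lt v t hv ht
  rw [Equiv.Perm.mul_apply, g_apply (C.valid _ hnx), g_apply (C.valid _ hv),
    g_pt (C.gvalid t ht) (valid_img_lt (C.valid _ hv) (idx_lt p)), C.Fstep v t _ hv ht (idx_lt p)]

theorem g_zero (C : Cert nV nR nP B nx par dat met Fc gc pS rel) : g (Fc 0) = 1 := by
  ext p
  rw [g_apply (C.valid _ C.hnV), C.F0 _ (idx_lt p), pt_idx]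
  rfl

variable {E : Type*} [Group E] {σ : E →* Equiv.Perm GolayPt} {K : AddSubgroup W} {Rp : E → W → Prop}

theorem sigma_T (C : Cert nV nR nP B nx par dat met Fc gc pS rel) (gen : ℕ → E)
    (hgen : ∀ t, t < 2 → σ (gen t) = g (gc t)) (v : ℕ) (hv : v < nV) : σ (tT par gen v) = g (Fc v) := by
  induction v using Nat.strong_induction_on with
  | _ v ih =>
    rcases Nat.eq_zero_or_pos v with rfl | h2
    · rw [tT_zero, map_one, g_zero C]
    · obtain ⟨h1, h3⟩ := C.tree v h2 hv
      rw [tT_eq, dif_pos ⟨h2, h1⟩, map_mul, ih _ h1 (by omega), hgen _ (pgV_lt par v),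
        ← g_step C (by omega) (pgV_lt par v), h3]

theorem sigma_cE (C : Cert nV nR nP B nx par dat met Fc gc pS rel) (gen : ℕ → E)
    (hgen : ∀ t, t < 2 → σ (gen t) = g (gc t)) {v t : ℕ} (hv : v < nV) (ht : t < 2) :
    σ (cE nx par gen v t) = 1 := by
  unfold cE
  rw [map_mul, map_mul, map_inv, sigma_T C gen hgen _ (C.nx_lt v t hv ht), sigma_T C gen hgen _ hv, hgen t ht,
    g_step C hv ht]
  group

theorem sigma_evalW (C : Cert nV nR nP B nx par dat met Fc gc pS rel) (gen : ℕ → E)
    (hgen : ∀ t, t < 2 → σ (gen t) = g (gc t)) {w : List ℕ} (hw : ∀ t ∈ w, t < 2) {v : ℕ} (hv : v < nV) :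
    σ (evalW gen w * tT par gen v) = g (Fc (wEnd nx w v)) := by
  induction w generalizing v with
  | nil => simp [evalW, wEnd_nil, sigma_T C gen hgen _ hv]
  | cons t w ih =>
    have ht := hw t List.mem_cons_self
    have h1 := ih (fun t' ht' => hw t' (List.mem_cons_of_mem _ ht')) (C.nx_lt v t hv ht)
    rw [wEnd_cons, ← h1, map_mul, map_mul, sigma_T C gen hgen _ (C.nx_lt v t hv ht), evalW, map_mul, mul_assoc,
      hgen t ht, sigma_T C gen hgen _ hv, g_step C hv ht]

/-- The element of a variable. -/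
noncomputable def vL (nV : ℕ) (nx : ℕ → ℕ → ℕ) (par : ℕ → ℕ) (rel : ℕ → List ℕ) (gen : ℕ → E) (x : ℕ) : E :=
  if x < 2 * nV then cE nx par gen (x / 2) (x % 2) else evalW gen (rel (x - 2 * nV))

theorem vL_edge (gen : ℕ → E) {x : ℕ} (h : x < 2 * nV) :
    vL nV nx par rel gen x = cE nx par gen (x / 2) (x % 2) := by
  simp [vL, h]

theorem vL_rel (gen : ℕ → E) (j : ℕ) : vL nV nx par rel gen (2 * nV + j) = evalW gen (rel j) := by
  simp [vL]

set_option maxHeartbeats 2000000 in
/-- **The values of all variables.** -/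
theorem solve (C : Cert nV nR nP B nx par dat met Fc gc pS rel) (MD : ExtMod σ K Rp) (gen : ℕ → E)
    (hgen : ∀ t, t < 2 → σ (gen t) = g (gc t)) (h0 : evalW gen (rel 0) = 1) (h1 : evalW gen (rel 1) = 1)
    (rep : ℕ → W) (hrep : ∀ s, s < nP → Rp (evalW gen (rel (pS s))) (rep s)) :
    ∀ x, x < 2 * nV + nR → Rp (vL nV nx par rel gen x) (wM B (rhoOf rep) (dat x)) := by
  set ρ := rhoOf rep with hρ
  suffices H : ∀ r x, mRank (met x) = r → x < 2 * nV + nR → Rp (vL nV nx par rel gen x) (wM B ρ (dat x)) from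
    fun x hx => H _ x rfl hx
  intro r
  induction r using Nat.strong_induction_on with
  | _ r ih =>
    intro x hrk hx
    have hv := C.var x hx
    simp only [varOK, Bool.or_eq_true] at hv
    rcases hv with hb | he
    · -- base variables
      unfold baseOK at hb
      by_cases h3 : Nat.blt x (Nat.mul 2 nV) = true
      · rw [h3] at hb
        have h3' : x < 2 * nV := Nat.blt_eq.mp h3
        have h7 : x / 2 < nV := by omega
        have h8 : x % 2 < 2 := by omega
        have e1 : Nat.shiftRight x 1 = x / 2 := shr_eq x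
        have e2 : Nat.land x 1 = x % 2 := land_eq x
        rw [e1, e2] at hb
        simp only [cond_true, treeOK, Bool.and_eq_true, Bool.not_eq_true'] at hb
        obtain ⟨⟨h4, h5⟩, h6⟩ := hb
        set y := nx (x / 2) (x % 2) with hy
        have h9 : y < nV := C.nx_lt _ _ h7 h8
        have h10 : 0 < y := by
          rcases Nat.eq_zero_or_pos y with h | h
          · rw [h] at h4
            exact absurd h4 (by decide)
          · exact h
        have h13 : x = 2 * parV par y + pgV par y := Nat.eq_of_beq_eq_true h5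
        have hpg := pgV_lt par y
        have h14 : x / 2 = parV par y := by omega
        have h15 : x % 2 = pgV par y := by omega
        obtain ⟨t1, -⟩ := C.tree y h10 h9
        rw [vL_edge gen h3', Nat.eq_of_beq_eq_true h6, wM_zero]
        have h16 : cE nx par gen (x / 2) (x % 2) = 1 := by
          unfold cE
          rw [← hy, tT_eq par gen y, dif_pos ⟨h10, t1⟩, h14, h15]
          group
        rw [h16]
        exact MD.one
      · have h3' : Nat.blt x (Nat.mul 2 nV) = false := by
          cases h30 : Nat.blt x (Nat.mul 2 nV)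
          · rfl
          · exact absurd h30 h3
        rw [h3'] at hb
        have h3'' : ¬ x < 2 * nV := fun h => h3 (Nat.blt_eq.mpr h)
        obtain ⟨j, rfl⟩ : ∃ j, x = 2 * nV + j := ⟨x - 2 * nV, by omega⟩
        have hj' : Nat.sub (2 * nV + j) (Nat.mul 2 nV) = j := by
          show 2 * nV + j - 2 * nV = j
          omega
        rw [hj'] at hb
        rw [vL_rel]
        simp only [cond_false, relBaseOK, Bool.or_eq_true, Bool.and_eq_true] at hb
        rcases hb with ⟨hj1, hj2⟩ | ⟨⟨hs1, hs2⟩, hs3⟩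
        · have hj3 : j < 2 := Nat.blt_eq.mp hj1
          rw [Nat.eq_of_beq_eq_true hj2, wM_zero]
          have hj4 : j = 0 ∨ j = 1 := by omega
          rcases hj4 with rfl | rfl
          · rw [h0]
            exact MD.one
          · rw [h1]
            exact MD.one
        · have hs : mV (met (2 * nV + j)) < nP := Nat.blt_eq.mp hs1
          rw [hρ, wM_eq_of_unitRows C.hB hs hs3 rep]
          have h5 := hrep _ hs
          rwa [Nat.eq_of_beq_eq_true hs2] at h5
    · -- equations
      unfold eqnOK eqnCore at he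
      rw [hrk] at he
      set v := mV (met x) with hvv
      set j := mJ (met x) with hjj
      simp only [Bool.and_eq_true] at he
      obtain ⟨⟨⟨⟨⟨hv1, hj1⟩, hcl⟩, hrows⟩, hcount⟩, hlow⟩ := he
      have hvlt : v < nV := Nat.blt_eq.mp hv1
      have hjlt : j < nR := Nat.blt_eq.mp hj1
      have hclosed : wEnd nx (rel j) v = v := Nat.eq_of_beq_eq_true hcl
      have hwrel := C.rel_lt j hjlt
      have hT := sigma_T C gen hgen v hvlt
      have hFv := C.valid v hvlt
      have hR : Nat.add (Nat.mul 2 nV) j = 2 * nV + j := rfl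
      rw [hR] at hrows hcount
      have hrw := wM_eq_of_rowsEq hFv hrows ρ
      have hedges : ∀ e ∈ edgesOf nx (rel j) v, e < 2 * nV := fun e he =>
        edgesOf_lt nx C.nx_lt hwrel hvlt e he
      have hlow' := wLow_spec nx (fun y => mRank (met y)) x r (rel j) v hlow
      rw [wCount_eq] at hcount
      by_cases hxR : x = 2 * nV + j
      · -- the relator is the unknown
        have hU : ∀ e ∈ edgesOf nx (rel j) v, Rp (cE nx par gen (e / 2) (e % 2)) (wM B ρ (dat e)) := by
          intro e he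
          have h4 := hedges e he
          have h5 : e ≠ x := by
            rw [hxR]
            omega
          have h6 := ih _ (hlow' e he h5) e rfl (by omega)
          rwa [vL_edge gen h4] at h6
        obtain ⟨a, ha1, ha2⟩ := walk nx par gen MD (fun e => wM B ρ (dat e)) C.nx_lt hwrel hvlt hU
        rw [← wM_wXor, hrw] at ha2
        rw [hclosed] at ha1
        have ha3 : evalW gen (rel j) = tT par gen v * a * (tT par gen v)⁻¹ := by
          rw [← ha1]
          group
        have ha4 := MD.conj (tT par gen v) ha2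
        rw [← ha3, hT] at ha4
        have e3 : (wM B ρ (dat (2 * nV + j)) ∘ ⇑(g (Fc v))) ∘ ⇑(g (Fc v))⁻¹ = wM B ρ (dat (2 * nV + j)) := by
          funext p
          simp
        rw [e3] at ha4
        rw [hxR, vL_rel]
        exact ha4
      · -- an edge is the unknown
        simp only [show Nat.beq x (2 * nV + j) = false from by
          cases h : Nat.beq x (2 * nV + j)
          · rfl
          · exact absurd (Nat.eq_of_beq_eq_true h) hxR, cond_false, Bool.and_eq_true] at hcount
        have hc1 : (edgesOf nx (rel j) v).count x = 1 := Nat.eq_of_beq_eq_true hcount.1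
        have hrR : mRank (met (2 * nV + j)) < r := Nat.blt_eq.mp hcount.2
        have hxe : x ∈ edgesOf nx (rel j) v := by
          apply List.count_pos_iff.mp
          omega
        have hxlt := hedges x hxe
        have hRv := ih _ hrR (2 * nV + j) rfl (by omega)
        rw [vL_rel] at hRv
        have hx2 : x / 2 < nV := by omega
        have hx3 : x % 2 < 2 := by omega
        obtain ⟨ux, hux⟩ := MD.ex (sigma_cE C gen hgen hx2 hx3)
        have hU : ∀ e ∈ edgesOf nx (rel j) v, Rp (cE nx par gen (e / 2) (e % 2))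
            (if e = x then ux else wM B ρ (dat e)) := by
          intro e he
          by_cases h5 : e = x
          · rw [if_pos h5, h5]
            exact hux
          · rw [if_neg h5]
            have h4 := hedges e he
            have h6 := ih _ (hlow' e he h5) e rfl (by omega)
            rwa [vL_edge gen h4] at h6
        obtain ⟨a, ha1, ha2⟩ := walk nx par gen MD _ C.nx_lt hwrel hvlt hU
        rw [hclosed] at ha1
        rw [sum_update, hc1, one_smul, ← wM_wXor, hrw] at ha2
        have ha3 : a = (tT par gen v)⁻¹ * evalW gen (rel j) * tT par gen v := by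
          rw [mul_assoc, ha1]
          group
        have ha4 := MD.conj' (tT par gen v) hRv
        rw [← ha3, hT] at ha4
        have ha5 := MD.diff ha2 ha4
        have e3 : wM B ρ (dat (2 * nV + j)) ∘ ⇑(g (Fc v)) + (ux + wM B ρ (dat x)) +
            wM B ρ (dat (2 * nV + j)) ∘ ⇑(g (Fc v)) = ux + wM B ρ (dat x) := by
          rw [add_comm (wM B ρ (dat (2 * nV + j)) ∘ ⇑(g (Fc v))), add_assoc, W_add_self, add_zero]
        rw [e3] at ha5
        rw [vL_edge gen hxlt]
        exact MD.replace hux ha5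

/-- The equations of closed walks. -/
theorem closed_res (C : Cert nV nR nP B nx par dat met Fc gc pS rel) (MD : ExtMod σ K Rp) (gen : ℕ → E)
    (hgen : ∀ t, t < 2 → σ (gen t) = g (gc t)) {ρ : ℕ → ZMod 2}
    (hsol : ∀ x, x < 2 * nV + nR → Rp (vL nV nx par rel gen x) (wM B ρ (dat x))) {v j : ℕ} (hv : v < nV)
    (hj : j < nR) (hcl : wEnd nx (rel j) v = v) :
    wM B ρ (wXor nx dat (rel j) v) + wM B ρ (dat (2 * nV + j)) ∘ ⇑(g (Fc v)) ∈ K := by
  have hU : ∀ e ∈ edgesOf nx (rel j) v, Rp (cE nx par gen (e / 2) (e % 2)) (wM B ρ (dat e)) := by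
    intro e he
    have h4 := edgesOf_lt nx C.nx_lt (C.rel_lt j hj) hv e he
    have h6 := hsol e (by omega)
    rwa [vL_edge gen h4] at h6
  obtain ⟨a, ha1, ha2⟩ := walk nx par gen MD (fun e => wM B ρ (dat e)) C.nx_lt (C.rel_lt j hj) hv hU
  rw [hcl] at ha1
  rw [← wM_wXor] at ha2
  have ha3 : a = (tT par gen v)⁻¹ * evalW gen (rel j) * tT par gen v := by
    rw [mul_assoc, ha1]
    group
  have hRv := hsol _ (show 2 * nV + j < 2 * nV + nR by omega)
  rw [vL_rel] at hRv
  have ha4 := MD.conj' (tT par gen v) hRv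
  rw [← ha3, sigma_T C gen hgen v hv] at ha4
  exact MD.diff ha2 ha4

/-- The value of any closed word. -/
theorem word_value (C : Cert nV nR nP B nx par dat met Fc gc pS rel) (MD : ExtMod σ K Rp) (gen : ℕ → E)
    {ρ : ℕ → ZMod 2} (hsol : ∀ x, x < 2 * nV + nR → Rp (vL nV nx par rel gen x) (wM B ρ (dat x))) {w : List ℕ}
    (hw : ∀ t ∈ w, t < 2) (hcl : wEnd nx w 0 = 0) : Rp (evalW gen w) (wM B ρ (wXor nx dat w 0)) := by
  have hU : ∀ e ∈ edgesOf nx w 0, Rp (cE nx par gen (e / 2) (e % 2)) (wM B ρ (dat e)) := by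
    intro e he
    have h4 := edgesOf_lt nx C.nx_lt hw C.hnV e he
    have h6 := hsol e (by omega)
    rwa [vL_edge gen h4] at h6
  obtain ⟨a, ha1, ha2⟩ := walk nx par gen MD (fun e => wM B ρ (dat e)) C.nx_lt hw C.hnV hU
  rw [hcl, tT_zero, mul_one, one_mul] at ha1
  rw [← wM_wXor, ← ha1] at ha2
  exact ha2

end Main

end Cfsg.Agent.Lib.ExtCert.Solve
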